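import Mathlib

/-!
# Subalgebras of rank two algebras over a power series ring
-/

set_option autoImplicit false
noncomputable section

namespace Groth.Agent.CrimpDbl

universe u v

open PowerSeries (X)

variable {k : Type u} [Field k] {St : Type v} [CommRing St] [Algebra (PowerSeries k) St]
  (bt : Module.Basis (Fin 2) (PowerSeries k) St) (x : St)

theorem mem_sup_iff (n : ℕ) (s : St) :
    s ∈ Submodule.span (PowerSeries k) {(1 : St)} ⊔
        Ideal.span {(X : PowerSeries k) ^ n} • (⊤ : Submodule (PowerSeries k) St) ↔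
      ∃ (r : PowerSeries k) (w : St), r • 1 + (X : PowerSeries k) ^ n • w = s := by
  simp only [Submodule.mem_sup, Submodule.mem_span_singleton, Submodule.ideal_span_singleton_smul]
  constructor
  · rintro ⟨_, ⟨r, rfl⟩, _, ⟨w, -, rfl⟩, rfl⟩; exact ⟨r, w, rfl⟩
  · rintro ⟨r, w, rfl⟩; exact ⟨_, ⟨r, rfl⟩, _, ⟨w, trivial, rfl⟩, rfl⟩

variable (h0 : bt 0 = 1) (h1 : bt 1 = x)
include h0 h1

theorem decomp (s : St) : bt.repr s 0 • (1 : St) + bt.repr s 1 • x = s := by
  conv_rhs => rw [← bt.sum_repr s]
  rw [Fin.sum_univ_two, h0, h1]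

theorem repr_eq (r c : PowerSeries k) : bt.repr (r • (1 : St) + c • x) 0 = r ∧ bt.repr (r • (1 : St) + c • x) 1 = c := by
  rw [← h0, ← h1]
  simp [Finsupp.single_apply]

variable (a : ℕ) (hx : x * x = (X : PowerSeries k) ^ a • (1 : St))
include hx

theorem smul_x_sq (c : PowerSeries k) : (c • x) * (c • x) = (c ^ 2 * (X : PowerSeries k) ^ a) • (1 : St) := by
  rw [smul_mul_smul_comm, hx, smul_smul, sq]

/-- classification of rank two subalgebras with given discriminant -/
theorem classification (h2 : (2 : k) ≠ 0) (b : ℕ) (S : Subalgebra (PowerSeries k) St) :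
    ((∃ bS : Module.Basis (Fin 2) (PowerSeries k) S,
      Ideal.span {Algebra.discr (PowerSeries k) ⇑bS} = Ideal.span {(X : PowerSeries k) ^ b}) ↔
    ∃ n : ℕ, b = 2 * n + a ∧
      Subalgebra.toSubmodule S = Submodule.span (PowerSeries k) {(1 : St)} ⊔
        Ideal.span {(X : PowerSeries k) ^ n} • (⊤ : Submodule (PowerSeries k) St)) ∧
    (∀ n : ℕ, Subalgebra.toSubmodule S = Submodule.span (PowerSeries k) {(1 : St)} ⊔
        Ideal.span {(X : PowerSeries k) ^ n} • (⊤ : Submodule (PowerSeries k) St) →
      Nonempty (S ≃ₐ[PowerSeries k] AdjoinRoot (Polynomial.X ^ 2 - Polynomial.C ((X : PowerSeries k) ^ (2 * n + a))))) := by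
  classical
  -- from the shape to the basis
  have shape : ∀ n : ℕ, Subalgebra.toSubmodule S = Submodule.span (PowerSeries k) {(1 : St)} ⊔
      Ideal.span {(X : PowerSeries k) ^ n} • (⊤ : Submodule (PowerSeries k) St) →
      ∃ bS : Module.Basis (Fin 2) (PowerSeries k) S, bS 0 = 1 ∧ ((bS 1 : S) : St) = (X : PowerSeries k) ^ n • x := by
    intro n hn
    have mem : ∀ s : St, s ∈ S ↔ ∃ (r : PowerSeries k) (w : St), r • 1 + (X : PowerSeries k) ^ n • w = s := fun s => by
      rw [← mem_sup_iff, ← hn]; rfl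
    let y : S := ⟨(X : PowerSeries k) ^ n • x, (mem _).2 ⟨0, x, by simp⟩⟩
    have li : LinearIndependent (PowerSeries k) ![(1 : S), y] := by
      rw [LinearIndependent.pair_iff]
      intro r c hrc
      have hrc' : r • (1 : St) + (c * (X : PowerSeries k) ^ n) • x = (0 : St) := by
        have := congrArg (fun s : S => (s : St)) hrc
        simpa [y, smul_smul] using this
      have h := repr_eq bt x h0 h1 r (c * (X : PowerSeries k) ^ n)
      rw [hrc', LinearEquiv.map_zero] at h
      refine ⟨h.1.symm, ?_⟩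
      have := h.2
      simp only [Finsupp.coe_zero, Pi.zero_apply] at this
      exact (mul_eq_zero.1 this.symm).resolve_right (pow_ne_zero _ PowerSeries.X_ne_zero)
    have sp : ⊤ ≤ Submodule.span (PowerSeries k) (Set.range ![(1 : S), y]) := by
      rintro s -
      obtain ⟨r, w, hs⟩ := (mem _).1 s.2
      have hs' : s = (r + (X : PowerSeries k) ^ n * bt.repr w 0) • (1 : S) + bt.repr w 1 • y := by
        apply Subtype.ext
        simp only [Subalgebra.coe_add, Subalgebra.coe_smul, Subalgebra.coe_one, y]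
        rw [← hs]
        conv_lhs => rw [← decomp bt x h0 h1 w]
        simp only [smul_add, smul_smul, add_smul, add_assoc, mul_comm]
      rw [hs']
      exact add_mem (Submodule.smul_mem _ _ (Submodule.subset_span ⟨0, rfl⟩))
        (Submodule.smul_mem _ _ (Submodule.subset_span ⟨1, rfl⟩))
    refine ⟨Module.Basis.mk li sp, ?_, ?_⟩ <;> simp [Module.Basis.mk_apply, y]
  -- its discriminant
  have disc : ∀ (n : ℕ) (bS : Module.Basis (Fin 2) (PowerSeries k) S), bS 0 = 1 →
      ((bS 1 : S) : St) = (X : PowerSeries k) ^ n • x →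
      Algebra.discr (PowerSeries k) ⇑bS = 4 * (X : PowerSeries k) ^ (2 * n + a) := by
    intro n bS e0 e1
    have esq : bS 1 * bS 1 = (X : PowerSeries k) ^ (2 * n + a) • (1 : S) := by
      apply Subtype.ext
      rw [Subalgebra.coe_mul, e1, smul_x_sq bt x h0 h1 a hx]
      simp only [Subalgebra.coe_smul, Subalgebra.coe_one]
      congr 1
      ring
    have t1 : Algebra.trace (PowerSeries k) S 1 = 2 := by
      rw [Algebra.trace_eq_matrix_trace bS, map_one, Matrix.trace_one]; simp
    have ty : Algebra.trace (PowerSeries k) S (bS 1) = 0 := by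
      rw [Algebra.trace_eq_matrix_trace bS, Matrix.trace_fin_two, Algebra.leftMulMatrix_eq_repr_mul,
        Algebra.leftMulMatrix_eq_repr_mul, e0, mul_one, esq, ← e0]
      simp [Finsupp.single_apply]
    rw [Algebra.discr_def, Matrix.det_fin_two]
    simp only [Algebra.traceMatrix_apply, Algebra.traceForm_apply, e0, one_mul, mul_one, t1, ty, esq,
      map_smul, smul_eq_mul]
    ring
  have hu4 : IsUnit (4 : PowerSeries k) := by
    have h4 : (4 : k) ≠ 0 := by
      rw [show (4 : k) = 2 * 2 by norm_num]; exact mul_ne_zero h2 h2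
    exact PowerSeries.isUnit_iff_constantCoeff.2 (by rw [map_ofNat]; exact isUnit_iff_ne_zero.2 h4)
  refine ⟨⟨fun ⟨bS, hb⟩ => ?_, fun ⟨n, hb, hn⟩ => ?_⟩, fun n hn => ?_⟩
  · -- the coefficient ideal
    let I : Ideal (PowerSeries k) := (Subalgebra.toSubmodule S).comap (LinearMap.toSpanSingleton (PowerSeries k) St x)
    have hmemI : ∀ c, c ∈ I ↔ c • x ∈ S := fun c => Iff.rfl
    have hsub : ∀ s : St, s ∈ S ↔ bt.repr s 1 ∈ I := by
      intro s
      have h1' : bt.repr s 0 • (1 : St) ∈ S := S.smul_mem (one_mem S) _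
      rw [hmemI]
      conv_lhs => rw [← decomp bt x h0 h1 s]
      exact ⟨fun h => by simpa using sub_mem h h1', fun h => add_mem h1' h⟩
    have hI : I ≠ ⊥ := by
      intro hI
      have hc : ∀ i, bt.repr (bS i : St) 1 = 0 := fun i => by
        have := (hsub _).1 (bS i).2
        rwa [hI, Ideal.mem_bot] at this
      have e : ∀ i, ((bS i : S) : St) = bt.repr (bS i : St) 0 • 1 := fun i => by
        conv_lhs => rw [← decomp bt x h0 h1 (bS i : St), hc i, zero_smul, add_zero]
      have hrel : bt.repr (bS 1 : St) 0 • bS 0 + (- bt.repr (bS 0 : St) 0) • bS 1 = 0 := by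
        apply Subtype.ext
        simp only [Subalgebra.coe_add, Subalgebra.coe_smul, Subalgebra.coe_zero]
        rw [e 0, e 1]
        simp only [smul_smul, ← add_smul]
        simp [← h0, Finsupp.single_apply, mul_comm]
      have := congrArg (fun z => bS.repr z 1) hrel
      simp [Finsupp.single_apply] at this
      exact bS.ne_zero 0 (Subtype.ext (by rw [e 0, this, zero_smul]; rfl))
    obtain ⟨n, hn⟩ := IsDiscreteValuationRing.ideal_eq_span_pow_irreducible hI PowerSeries.X_irreducible
    have hS : Subalgebra.toSubmodule S = Submodule.span (PowerSeries k) {(1 : St)} ⊔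
        Ideal.span {(X : PowerSeries k) ^ n} • (⊤ : Submodule (PowerSeries k) St) := by
      ext s
      rw [Subalgebra.mem_toSubmodule, hsub, mem_sup_iff, hn, Ideal.mem_span_singleton']
      constructor
      · rintro ⟨c, hc⟩
        refine ⟨bt.repr s 0, c • x, ?_⟩
        rw [smul_smul, mul_comm, hc, decomp bt x h0 h1]
      · rintro ⟨r, w, rfl⟩
        exact ⟨bt.repr w 1, by simp [← h0, Finsupp.single_apply, mul_comm]⟩
    refine ⟨n, ?_, hS⟩
    obtain ⟨bS', e0, e1⟩ := shape n hS
    have hch : Associated (Algebra.discr (PowerSeries k) ⇑bS') (Algebra.discr (PowerSeries k) ⇑bS) := by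
      have hu : IsUnit (bS'.toMatrix ⇑bS).det := IsUnit.of_mul_eq_one _ (by
        rw [← Matrix.det_mul, bS'.toMatrix_mul_toMatrix_flip bS, Matrix.det_one])
      have h : Algebra.discr (PowerSeries k) ⇑bS = (bS'.toMatrix ⇑bS).det ^ 2 * Algebra.discr (PowerSeries k) ⇑bS' := by
        rw [← Algebra.discr_of_matrix_vecMul, bS'.toMatrix_map_vecMul ⇑bS]
      rw [h]
      exact (associated_unit_mul_left _ _ (hu.pow 2)).symm
    have h3 : Associated ((X : PowerSeries k) ^ b) ((X : PowerSeries k) ^ (2 * n + a)) := by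
      refine (Ideal.span_singleton_eq_span_singleton.1 hb).symm.trans (hch.symm.trans ?_)
      rw [disc n bS' e0 e1]
      exact associated_unit_mul_left _ _ hu4
    have hX : Irreducible (X : PowerSeries k) := PowerSeries.X_irreducible
    have := (pow_dvd_pow_iff hX.ne_zero hX.not_isUnit).1 h3.dvd
    have := (pow_dvd_pow_iff hX.ne_zero hX.not_isUnit).1 h3.symm.dvd
    omega
  · obtain ⟨bS, e0, e1⟩ := shape n hn
    refine ⟨bS, ?_⟩
    rw [disc n bS e0 e1, hb, Ideal.span_singleton_mul_left_unit hu4]
  · obtain ⟨bS, e0, e1⟩ := shape n hn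
    set p := Polynomial.X ^ 2 - Polynomial.C ((X : PowerSeries k) ^ (2 * n + a)) with hp
    have hm : p.Monic := Polynomial.monic_X_pow_sub_C _ two_ne_zero
    have hroot : Polynomial.aeval (bS 1) p = 0 := by
      simp only [hp, map_sub, map_pow, Polynomial.aeval_X, Polynomial.aeval_C, sub_eq_zero]
      apply Subtype.ext
      rw [sq, Subalgebra.coe_mul, e1, smul_x_sq bt x h0 h1 a hx, ← map_pow, Subalgebra.coe_algebraMap,
        Algebra.algebraMap_eq_smul_one]
      congr 1
      ring
    let ψ : AdjoinRoot p →ₐ[PowerSeries k] S := AdjoinRoot.liftAlgHom p (Algebra.ofId _ S) (bS 1) hroot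
    have hd : p.natDegree = 2 := Polynomial.natDegree_X_pow_sub_C
    let pb := ((AdjoinRoot.powerBasis' hm).basis).reindex (finCongr ((AdjoinRoot.powerBasis'_dim hm).trans hd))
    have he : ∀ i, ψ (pb i) = bS i := by
      intro i
      simp only [pb, Module.Basis.reindex_apply, PowerBasis.coe_basis, AdjoinRoot.powerBasis'_gen, map_pow]
      fin_cases i
      · simp [ψ, e0, finCongr]
      · simp [ψ, finCongr]
    have heq : ψ.toLinearMap = (pb.equiv bS (Equiv.refl _)).toLinearMap := pb.ext fun i => by simp [he]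
    have hbij : Function.Bijective ψ := by
      rw [show (ψ : AdjoinRoot p → S) = ψ.toLinearMap from rfl, heq]
      exact (pb.equiv bS (Equiv.refl _)).bijective
    exact ⟨(AlgEquiv.ofBijective ψ hbij).symm⟩

end Groth.Agent.CrimpDbl
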